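import Cfsg.Agent.PF13.Structure
import Cfsg.Agent.PF8.PF12Glue
import Cfsg.Agent.BGSummary.PFData

/-!
# Peterfalvi (13): the first properties of a pair (`S1543`), from §9-§11
-/

set_option autoImplicit false

namespace Cfsg.Agent.PF13

open Cfsg Subgroup

universe u

variable {G : Type u} [Group G] [Fintype G] (hG : IsMinSimpleOddOrder G)
include hG

/-- Peterfalvi (11.7): there is no subgroup of Type IV. -/
theorem not_typeIV (h34 : Shape34 G) {M : Subgroup G} (hM : IsCoatom M) : ¬ IsOfTypeIV M := by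
  intro hIV
  obtain ⟨W₁, U, W₂, hP, -, -, -, hna, -⟩ := id hIV
  haveI := (h34 M W₁ U W₂ hM hP (Or.inr hIV)).1
  exact hna inferInstance

/-- The centralizers of the elements of `M_σ` in type `P`. -/
theorem centralizer_le (h34 : Shape34 G) (hV : NoV G) :
    ∀ M : Subgroup G, IsCoatom M → (kappa M).Nonempty →
      ∀ x ∈ sigmaCore M, x ≠ 1 → centralizer ({x} : Set G) ≤ M :=
  PF8.typeP_centralizer hG (PF8.summaryInputs hG) hV fun _ _ _ _ hM hT hP =>
    (h34 _ _ _ _ hM hP hT).1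

/-- The inputs of (12.7). -/
theorem pf12Inputs (h34 : Shape34 G) (hV : NoV G) : PF12.Inputs G :=
  PF8.pf12Inputs hG (fun _ hM hk => BGSummary.oneData hG hM hk) hV
    fun _ _ _ _ hM hT hP => (h34 _ _ _ _ hM hP hT).1

/-- One member of a pair: its type, the shape of its core, and its `A₀`. -/
theorem member_stmt (h34 : Shape34 G) (hV : NoV G) {S T W₁ W₂ U V : Subgroup G}
    (d : FT.Pair S T W₁ W₂ U V) :
    (IsOfTypeII S ∨ IsOfTypeIII S) ∧ (Nat.card W₁ < Nat.card W₂ → IsOfTypeII S) ∧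
      IsElementaryAbelian (Nat.card W₂) (fittingHallOf S) ∧
      Nat.card (fittingHallOf S) = Nat.card W₂ ^ Nat.card W₁ ∧
      IsTISubset (typeA0 S) ∧ normalizer (typeA0 S) = S := by
  have hcases : IsOfTypeII S ∨ IsOfTypeIII S := by
    rcases d.casesS with h2 | h3 | h4 | h5
    · exact Or.inl h2
    · exact Or.inr h3
    · exact absurd h4 (not_typeIV hG h34 d.coatomS)
    · exact absurd h5 (hV S d.coatomS)
  have hT23 : IsOfTypeII T ∨ IsOfTypeIII T ∨ IsOfTypeIV T := by
    rcases d.casesT with h2 | h3 | h4 | h5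
    · exact Or.inl h2
    · exact Or.inr (Or.inl h3)
    · exact Or.inr (Or.inr h4)
    · exact absurd h5 (hV T d.coatomT)
  have hI : ¬ IsOfTypeI S := PF8.not_typeI hG d.coatomS d.typeS
  obtain ⟨hTI, hN⟩ := typeA0_isTI hG d.coatomS
    (centralizer_le hG h34 hV S d.coatomS (FT.kappa_nonempty hG d.coatomS d.typeS)) hI
  rcases hcases with h2 | h3
  · obtain ⟨hel, hcard⟩ := core_of_typeII hG d.coatomS d.typeS h2
      (PF8.prime_W₁ hG d.coatomT d.typeT hT23)
    exact ⟨Or.inl h2, fun _ => h2, hel, hcard, hTI, hN⟩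
  · obtain ⟨-, hel, hcard, -, -, hlt⟩ := h34 _ _ _ _ d.coatomS d.typeS (Or.inl h3)
    exact ⟨Or.inr h3, fun h0 => absurd h0 (not_lt.mpr hlt.le), hel, hcard, hTI, hN⟩

end Cfsg.Agent.PF13
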