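import Cfsg.Agent.BGSummary.Supports
import Cfsg.Agent.BGSummary.OfLocal
import Cfsg.Agent.BGSummary.LocalInst
import Cfsg.Agent.BGSummary.SupportTools
import Cfsg.Agent.BGSummary.TypePFitting

/-!
# The set `A₀(M)` of a maximal subgroup of type P

`A₀(M)` is a TI-set with normalizer `M` as soon as the centralizers of the non-identity elements
of `M_σ` lie in `M`; this holds for type II, and for type III once `M'` is known to have a cyclic
complement to `M_F`.
-/

set_option autoImplicit false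

namespace Cfsg.Agent.PF13

open Cfsg Subgroup
open Cfsg.Agent.BGSummary (SummaryInputs)
open Cfsg.Agent.BGSigma (sigmaCore_le isPiSub_sigmaCore)

universe u

variable {G : Type u} [Group G] [Finite G] (hG : IsMinSimpleOddOrder G) {M : Subgroup G}
  (hM : IsCoatom M)
include hG hM

theorem summaryInputs : SummaryInputs G :=
  BGSummary.SummaryInputs.of_local hG (BGSummary.localStructure hG)

theorem not_typeI_of_typeP {W₁ U W₂ : Subgroup G} (hP : IsTypePWith M W₁ U W₂) :
    ¬ IsOfTypeI M := fun hI => by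
  have h := summaryInputs hG hM
  obtain ⟨K, V, hKU⟩ := BGSummary.exists_decomp h hM
  exact h.typeP_conv M hM K V hKU W₁ U W₂ hP (h.typeI_conv M hM K V hKU hI).1

theorem typeA0_subset {v : G} (hv : v ∈ typeA0 M) : v ∈ M := by
  have h := summaryInputs hG hM
  by_cases hA : v ∈ typeA M
  · exact BGSummary.typeA_subset hG h hM hA
  · exact (BGSummary.of_typeA0_not_typeA hG h hM hv hA).2.1

variable (hC : ∀ x ∈ sigmaCore M, x ≠ 1 → centralizer ({x} : Set G) ≤ M)
include hC

theorem centralizer_typeA0_le {v : G} (hv : v ∈ typeA0 M) : centralizer ({v} : Set G) ≤ M := by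
  have h := summaryInputs hG hM
  by_cases hA : v ∈ typeA M
  · obtain ⟨K, U, hKU⟩ := BGSummary.exists_decomp h hM
    obtain ⟨hvU, hv1, y, hy, hy1, hvy⟩ := BGSummary.mem_typeA_imp hG h hM hKU hA
    by_cases hvσ : v ∈ sigmaCore M
    · exact hC v hvσ hv1
    obtain ⟨r, n, hr, hrσ, hvn⟩ :=
      BGSummary.exists_prime_power h hM (BGSummary.le_of_decomp hKU hvU) hvσ
    intro c hc
    refine (BGSummary.centralizer_uniq_of_mem h hM hKU (pow_mem hvU n) hr hrσ hvn hy hy1
      ((show Commute v y from hvy).pow_left n).eq).1 ?_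
    rw [mem_centralizer_singleton_iff] at hc ⊢
    exact ((show Commute c v from hc).pow_right n).eq
  · exact (BGSummary.of_typeA0_not_typeA hG h hM hv hA).2.2.1

theorem mem_of_conj_typeA0 {x g : G} (hx : x ∈ typeA0 M) (hgx : g * x * g⁻¹ ∈ typeA0 M) :
    g ∈ M := by
  have h := summaryInputs hG hM
  by_cases hA : x ∈ typeA M
  swap
  · exact (BGSummary.of_typeA0_not_typeA hG h hM hx hA).2.2.2 g (typeA0_subset hG hM hgx)
  by_cases hB : g * x * g⁻¹ ∈ typeA M
  swap
  · have := (BGSummary.of_typeA0_not_typeA hG h hM hgx hB).2.2.2 g⁻¹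
      (by simpa [mul_assoc] using BGSummary.typeA_subset hG h hM hA)
    simpa using inv_mem this
  by_cases hxσ : x ∈ sigmaCore M
  swap
  · exact BGSummary.mem_of_conj_typeA hG h hM hA hxσ hB
  obtain ⟨K, U, hKU⟩ := BGSummary.exists_decomp h hM
  have hx1 : x ≠ 1 := (BGSummary.mem_typeA_imp hG h hM hKU hA).2.1
  have hyσ : g * x * g⁻¹ ∈ sigmaCore M :=
    BGSummary.le_sigmaCore_of_sigma h hM (typeA0_subset hG hM hgx) fun p hp hd =>
      isPiSub_sigmaCore M p hp
        ((by rwa [show g * x * g⁻¹ = MulAut.conj g x from rfl, MulEquiv.orderOf_eq] at hd :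
          p ∣ orderOf x).trans (Subgroup.orderOf_dvd_natCard _ hxσ))
  have hne : sigmaCore M ≠ ⊥ := fun h0 => hx1 (mem_bot.mp (h0.le hxσ))
  obtain ⟨n, hn, hnx⟩ := (h.sigma_fusion M hM (sigmaCore M) le_rfl hne
    (by rw [Subgroup.relIndex_self]; exact Nat.coprime_one_right _)).2 x hxσ g hyσ
  have hc : n⁻¹ * g ∈ centralizer ({x} : Set G) := by
    rw [mem_centralizer_singleton_iff]
    calc n⁻¹ * g * x = n⁻¹ * (g * x * g⁻¹) * g := by group
      _ = n⁻¹ * (n * x * n⁻¹) * g := by rw [hnx]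
      _ = x * (n⁻¹ * g) := by group
  simpa using mul_mem hn.1 (hC x hxσ hx1 hc)

omit hC in
theorem conj_mem_typeA0 {m v : G} (hm : m ∈ M) (hv : v ∈ typeA0 M) :
    m * v * m⁻¹ ∈ typeA0 M := by
  rcases hv with hv | ⟨hI, W₁, U, W₂, hP, n, hn, w, hw, hw1, hw2, rfl⟩
  · left
    unfold typeA at hv ⊢
    split_ifs with hI
    · rw [if_pos hI] at hv
      obtain ⟨hvM, hv1, x, hx, hx1, hxv⟩ := hv
      refine ⟨mul_mem (mul_mem hm hvM) (inv_mem hm), fun h0 => hv1 (conj_eq_one_iff.mp h0),
        m * x * m⁻¹, ?_, fun h0 => hx1 (conj_eq_one_iff.mp h0), ?_⟩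
      · exact Coprime.conj_mem_of_mem_normalizer
          (BGSummary.le_normalizer_fittingHallOf M hm) hx
      · rw [show m * v * m⁻¹ * (m * x * m⁻¹) = m * (v * x) * m⁻¹ by group, hxv]; group
    · rw [if_neg hI] at hv
      obtain ⟨hvd, hv1, x, hx, hx1, hxv⟩ := hv
      have h := summaryInputs hG hM
      rw [BGSummary.typeCore_eq h hM] at hx ⊢
      refine ⟨?_, fun h0 => hv1 (conj_eq_one_iff.mp h0),
        m * x * m⁻¹, BGSummary.conj_mem_sigmaCore hm hx, fun h0 => hx1 (conj_eq_one_iff.mp h0), ?_⟩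
      · exact Coprime.conj_mem_of_mem_normalizer
          (Coprime.le_normalizer_commutator_left M M hm) hvd
      · rw [show m * v * m⁻¹ * (m * x * m⁻¹) = m * (v * x) * m⁻¹ by group, hxv]; group
  · exact Or.inr ⟨hI, W₁, U, W₂, hP, m * n, mul_mem hm hn, w, hw, hw1, hw2, by group⟩

omit hC in
theorem typeA0_nonempty (hI : ¬ IsOfTypeI M) : (typeA0 M).Nonempty := by
  have h := summaryInputs hG hM
  obtain ⟨h1, h2, h3, -⟩ := h.fitting_core M hM
  obtain ⟨y, hy, hy1⟩ := (Subgroup.bot_or_exists_ne_one (sigmaCore M)).resolve_left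
    fun h0 => h1 (le_bot_iff.mp (h2.trans h0.le))
  refine ⟨y, Or.inl ?_⟩
  rw [typeA, if_neg hI, BGSummary.typeCore_eq h hM]
  exact ⟨h3 hy, hy1, y, hy, hy1, rfl⟩

/-- `A₀(M)` is a TI-subset of `G` with normalizer `M`. -/
theorem typeA0_isTI (hI : ¬ IsOfTypeI M) :
    IsTISubset (typeA0 M) ∧ normalizer (typeA0 M) = M := by
  have hle : M ≤ normalizer (typeA0 M) := fun m hm => by
    rw [mem_set_normalizer_iff]
    intro a
    refine ⟨conj_mem_typeA0 hG hM hm, fun ha => ?_⟩
    have := conj_mem_typeA0 hG hM (inv_mem hm) ha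
    simpa [mul_assoc] using this
  refine ⟨fun g hg x hx hgx => ?_, le_antisymm (fun g hg => ?_) hle⟩
  · exact absurd (hle (mem_of_conj_typeA0 hG hM hC hx hgx)) hg
  · obtain ⟨x, hx⟩ := typeA0_nonempty hG hM hI
    exact mem_of_conj_typeA0 hG hM hC hx ((mem_set_normalizer_iff.mp hg x).mp hx)

omit hC

/-- For type II the centralizers of the non-identity elements of `M_σ` lie in `M`. -/
theorem centralizer_le_of_typeII (hII : IsOfTypeII M) :
    ∀ x ∈ sigmaCore M, x ≠ 1 → centralizer ({x} : Set G) ≤ M := by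
  intro x hx hx1
  have h := summaryInputs hG hM
  obtain ⟨K, U, hKU⟩ := BGSummary.exists_decomp h hM
  obtain ⟨hK, hU⟩ := (h.typeII_iff M hM K U hKU).mp hII
  exact BGSummary.Loc.centralizer_le_of_sigma hG (BGSummary.localStructure hG) hM hKU hK hU hx hx1

/-- An element of `M_σ` with a prime of rank one in `M` has its centralizer in `M`. -/
theorem centralizer_le_of_rank_one {x : G} (hx : x ∈ sigmaCore M) (hx1 : x ≠ 1) {r : ℕ}
    (hr : r.Prime) (hd : r ∣ orderOf x) (h1 : PRankLE r 1 M) :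
    centralizer ({x} : Set G) ≤ M := by
  by_contra hxM
  haveI := Fact.mk hr
  obtain ⟨N, d⟩ := BGSummary.Support.exists_sig hG hM hx hx1 hxM
  have hrσ : r ∈ sigma M :=
    isPiSub_sigmaCore M r hr (hd.trans (Subgroup.orderOf_dvd_natCard _ hx))
  obtain ⟨Q, hQ⟩ := BGSigma.exists_sylow_of_mem_sigma hrσ
  have hQG : PRankLE r 1 G :=
    (BGSigma.prankLE_iff_sylow Q).mpr (BGSigma.prankLE_subgroup (le_normalizer.trans hQ) h1)
  exact (d.tau2 r hr hd).2.2.2 (BGSigma.prankLE_subgroup_self N hQG)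

/-- For type III or IV with `M_F` having a cyclic complement in `M'`, the centralizers of the
non-identity elements of `M_σ` lie in `M`. -/
theorem centralizer_le_of_cyclic (hT : IsOfTypeIII M ∨ IsOfTypeIV M) {V : Subgroup G}
    (hV : IsComplIn (fittingHallOf M) V ⁅M, M⁆) (hVc : IsCyclic V) :
    ∀ x ∈ sigmaCore M, x ≠ 1 → centralizer ({x} : Set G) ≤ M := by
  intro x hx hx1
  have h := summaryInputs hG hM
  obtain ⟨K, U, hKU⟩ := BGSummary.exists_decomp h hM
  obtain ⟨hK, hU, hne⟩ := (h.typeIII_IV_iff M hM K U hKU).mp hT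
  have hd : ⁅M, M⁆ = sigmaCore M := by rw [(h.derived M hM K U hKU hK).1, hU, bot_sup_eq]
  have hTI := (h.fitting_ne M hM K U hKU hne).2.1
  by_cases hxH : x ∈ fittingHallOf M
  · intro c hc
    rw [mem_centralizer_singleton_iff] at hc
    have hxF : x ∈ fittingOf M := BGSummary.TypeCore.fittingHallOf_le_fittingOf M hxH
    by_contra hcM
    refine hx1 (hTI c (fun hn => hcM ?_) x hxF ?_)
    · exact (BGSigma.normalizer_eq_coatom hG hM (BGUniq.fittingOf_le M)
        (fun h0 => hx1 (mem_bot.mp (h0.le hxF))) (BGUniq.le_normalizer_fittingOf M)).le hn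
    · rwa [show c * x * c⁻¹ = x by rw [hc]; group]
  have hsup := BGSummary.isComplIn_sup hV
  have hH' : fittingHallOf M ≤ ⁅M, M⁆ := hV.1
  -- some prime of `x` divides neither `|M_F|` nor `|M : M'|`
  obtain ⟨r, hr, hrd, hrH⟩ : ∃ r, r.Prime ∧ r ∣ orderOf x ∧ ¬ r ∣ Nat.card (fittingHallOf M) := by
    by_contra hno
    push Not at hno
    have hn : ((fittingHallOf M).subgroupOf M).Normal :=
      (normal_subgroupOf_iff_le_normalizer (BGUniq.fittingHallOf_le M)).mpr
        (BGSummary.le_normalizer_fittingHallOf M)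
    refine hxH (BGUniq.mem_of_pow_mem_of_coprime (n := orderOf x)
      (m := ((fittingHallOf M).subgroupOf M).index) (by rw [pow_orderOf_eq_one]; exact one_mem _)
      (Subgroup.pow_index_mem ((fittingHallOf M).subgroupOf M) ⟨x, sigmaCore_le M hx⟩) ?_)
    exact Nat.coprime_of_dvd fun p hp hpd hpd' => hp.not_dvd_one
      ((BGSummary.fittingHallOf_relIndex_coprime M) ▸ Nat.dvd_gcd (hno p hp hpd) hpd')
  haveI := Fact.mk hr
  have hrσ : r ∈ sigma M :=
    isPiSub_sigmaCore M r hr (hrd.trans (Subgroup.orderOf_dvd_natCard _ hx))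
  refine centralizer_le_of_rank_one hG hM hx hx1 hr hrd fun A hA hAp => ?_
  rw [pow_one]
  -- `A` lies in `M'`
  have hAd : A.map M.subtype ≤ ⁅M, M⁆ := by
    rintro _ ⟨a, ha, rfl⟩
    rw [hd]
    refine BGSummary.le_sigmaCore_of_sigma h hM a.2 fun p hp hpd => ?_
    have h1 : orderOf (M.subtype a) ∣ r :=
      orderOf_dvd_of_pow_eq_one (by rw [← map_pow, hAp a ha, map_one])
    rwa [(Nat.prime_dvd_prime_iff_eq hp hr).mp (hpd.trans h1)]
  set B := A.map M.subtype with hB
  have hBc : Nat.card B = Nat.card A := card_map_of_injective M.subtype_injective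
  have hBr : IsPGroup r B := (BGSigma.isPGroup_of_pow_eq_one hr hAp).map _
  have hcop : (Nat.card B).Coprime (Nat.card (fittingHallOf M)) := by
    obtain ⟨n, hn⟩ := hBr.exists_card_eq
    rw [hn]
    exact Nat.Coprime.pow_left n ((Nat.Prime.coprime_iff_not_dvd hr).mpr hrH)
  have hBn : B ≤ normalizer (fittingHallOf M : Set G) :=
    (map_subtype_le A).trans (BGSummary.le_normalizer_fittingHallOf M)
  have hsolB : Group.IsSolvable B := by
    haveI := hBr.isNilpotent
    infer_instance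
  obtain ⟨k, -, hkB⟩ := Coprime.exists_conj_le_of_le_sup B (fittingHallOf M) V hBn
    ((hsup ▸ le_sup_right).trans (Subgroup.commutator_le_self M |>.trans
      (BGSummary.le_normalizer_fittingHallOf M))) hcop
    (Or.inl hsolB) (by rw [hsup]; exact hAd)
  have hle : B.map (MulAut.conj k).toMonoidHom ≤ V := by
    rintro _ ⟨b, hb, rfl⟩
    exact hkB b hb
  haveI := hVc
  haveI : IsCyclic ↥(B.map (MulAut.conj k).toMonoidHom) := isCyclic_of_le hle
  obtain ⟨a, ha⟩ := IsCyclic.exists_generator (α := ↥(B.map (MulAut.conj k).toMonoidHom))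
  have hao : orderOf a ∣ r := by
    obtain ⟨b, hb, hab⟩ := a.2
    obtain ⟨a', ha', rfl⟩ := hb
    apply orderOf_dvd_of_pow_eq_one
    apply Subtype.ext
    rw [SubmonoidClass.coe_pow, ← hab, ← map_pow, ← map_pow, hAp a' ha', map_one, map_one]
    rfl
  rw [← hBc, ← card_map_of_injective (f := (MulAut.conj k).toMonoidHom) (MulAut.conj k).injective,
    ← orderOf_eq_card_of_forall_mem_zpowers ha]
  exact Nat.le_of_dvd hr.pos hao

end Cfsg.Agent.PF13
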