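import Cfsg.Agent.PF8.TypePSetup
import Cfsg.Agent.PF13.TISupport
import Cfsg.Agent.PF10.Main
import Cfsg.Agent.PF.PrimeCoherent
import Cfsg.Agent.FT.Pair
import Cfsg.Agent.OddLocal43.Coprime
import Cfsg.Agent.Lib.PGroup.Basic
import Cfsg.Agent.S1545

/-!
# Peterfalvi (10.11), (11.3)-(11.8) and (13): the two members of a pair

`Shape34` is what §9 and §11 give and `NoV` what (10.10) gives.
-/

set_option autoImplicit false

namespace Cfsg.Agent.PF13

open Cfsg Subgroup
open scoped commutatorElement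
open Cfsg.Agent.BGSummary (SummaryInputs TypeInputs)

universe u

variable {G : Type u} [Group G] [Fintype G]

/-- The outcome of §9 and §11 for Types III and IV. -/
def Shape34 (G : Type u) [Group G] : Prop :=
  ∀ M W₁ U W₂ : Subgroup G, IsCoatom M → IsTypePWith M W₁ U W₂ →
    (IsOfTypeIII M ∨ IsOfTypeIV M) →
      IsCyclic U ∧ IsElementaryAbelian (Nat.card W₂) (fittingHallOf M) ∧
      Nat.card (fittingHallOf M) = Nat.card W₂ ^ Nat.card W₁ ∧
      Nat.card U * (Nat.card W₂ - 1) ∣ Nat.card W₂ ^ Nat.card W₁ - 1 ∧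
      (∀ u ∈ U, u ≠ 1 → ∀ x ∈ fittingHallOf M, u * x = x * u → x = 1) ∧
      Nat.card W₂ < Nat.card W₁

/-- Peterfalvi (10.10). -/
def NoV (G : Type u) [Group G] : Prop :=
  ∀ M : Subgroup G, IsCoatom M → ¬ IsOfTypeV M

variable (hG : IsMinSimpleOddOrder G)
include hG

/-- The complement in Type II: nontrivial, abelian, normalized by some element outside `S`. -/
theorem typeII_complement {S W U W' : Subgroup G} (hS : IsCoatom S)
    (hP : IsTypePWith S W U W') (hII : IsOfTypeII S) :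
    U ≠ ⊥ ∧ IsMulCommutative U ∧ ∃ g : G, g ∉ S ∧ ∀ u : G, u ∈ U ↔ g * u * g⁻¹ ∈ U := by
  obtain ⟨hF, -⟩ := PF8.typeII_of_typePWith hG hS hP hII
  have h := PF8.typeInputs hG
  obtain ⟨⟨U₀, hKU⟩, -, -⟩ := PF8.decomp_of_typePWith hG hS hP
  have hd := (h.derived S hS W U₀ hKU hP.W₁_ne).1
  have hU₀ := ((BGSummary.typeII_stmt hG h S hS W U₀ hKU).mp hII).2
  obtain ⟨hab, hN⟩ := h.complement_abelian S hS W U₀ hKU hP.W₁_ne
  have hUS : U ≤ S := hP.U_compl.2.1.trans hP.W₁_compl.1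
  have hU₀S := hKU.compl.1
  have hσn : S ≤ normalizer (sigmaCore S : Set G) := BGSigma.le_normalizer_sigmaCore S
  have hdn : ⁅S, S⁆ ≤ normalizer (fittingHallOf S : Set G) :=
    hP.W₁_compl.1.trans (BGSummary.le_normalizer_fittingHallOf S)
  -- `U` is conjugate to `U₀` in `S`
  have hU₀c : IsComplIn (fittingHallOf S) U₀ ⁅S, S⁆ := by
    rw [hF, hd]
    refine BGSummary.TypeCore.complIn_of_sup le_sup_right le_sup_left
      (hU₀S.trans hσn) ?_ (sup_comm _ _).le
    rw [inf_comm]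
    exact BGSummary.inf_eq_bot hKU
  have hcard : Nat.card U = Nat.card U₀ := by
    rw [← BGSummary.card_eq_of_complIn hP.U_compl hdn, BGSummary.card_eq_of_complIn hU₀c hdn]
  have hcop : (Nat.card U).Coprime (Nat.card (sigmaCore S)) := by
    rw [← hF, ← BGSummary.card_eq_of_complIn hP.U_compl hdn]
    exact ((BGSummary.fittingHallOf_relIndex_coprime S).coprime_dvd_right
      ⟨(⁅S, S⁆ : Subgroup G).relIndex S,
        (Subgroup.relIndex_mul_relIndex _ _ _ hP.U_compl.1 hP.W₁_compl.1).symm⟩).symm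
  obtain ⟨c, hc, hcU⟩ := Coprime.exists_conj_le_of_le_sup U (sigmaCore S) U₀
    (hUS.trans hσn) (hU₀S.trans hσn) hcop
    (Or.inr (Coprime.solvable_of_le (BGSigma.sigmaCore_le S) (BGSigma.coatom_isSolvable hG hS)))
    (by rw [sup_comm, ← hd]; exact hP.U_compl.2.1)
  have hcS : c ∈ S := BGSigma.sigmaCore_le S hc
  have heq : U.map (MulAut.conj c).toMonoidHom = U₀ := by
    refine Subgroup.eq_of_le_of_card_ge (by rintro _ ⟨v, hv, rfl⟩; exact hcU v hv) ?_
    rw [Subgroup.card_map_of_injective (MulAut.conj c).injective, hcard]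
  have hU1 : U ≠ ⊥ := fun h0 => hU₀ (by rw [← heq, h0, Subgroup.map_bot])
  -- some `g ∉ S` normalizes `U`
  obtain ⟨n, hn, hnS⟩ := Set.not_subset.mp hN
  have hgU : ∀ u : G, u ∈ U ↔ c⁻¹ * n * c * u * (c⁻¹ * n * c)⁻¹ ∈ U := by
    have hmem : ∀ z : G, z ∈ U ↔ c * z * c⁻¹ ∈ U₀ := fun z => by
      rw [← heq, BGSigma.mem_map_conj]
      simp [mul_assoc]
    intro u
    rw [hmem u, hmem, Subgroup.mem_normalizer_iff.mp hn (c * u * c⁻¹)]
    simp [mul_assoc]
  refine ⟨hU1, ?_, c⁻¹ * n * c, fun hgS => hnS ?_, hgU⟩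
  · refine ⟨⟨fun a b => Subtype.ext ?_⟩⟩
    haveI := hab
    have h1 := congrArg Subtype.val (mul_comm' (⟨c * a * c⁻¹, hcU a a.2⟩ : U₀)
      ⟨c * b * c⁻¹, hcU b b.2⟩)
    simp only [Subgroup.coe_mul] at h1
    simpa [mul_assoc] using congrArg (fun t => c⁻¹ * t * c) h1
  · simpa [mul_assoc] using mul_mem (mul_mem hcS hgS) (inv_mem hcS)

/-- In the type II member the complement has no fixed points of all of it on the core. -/
theorem inf_centralizer_eq_bot {S W U W' : Subgroup G} (hS : IsCoatom S)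
    (hP : IsTypePWith S W U W') (hII : IsOfTypeII S) :
    U ≠ ⊥ ∧ fittingHallOf S ⊓ centralizer (U : Set G) = ⊥ := by
  obtain ⟨hU1, -, g, hgS', hgU⟩ := typeII_complement hG hS hP hII
  refine ⟨hU1, le_bot_iff.mp fun y hy => by_contra fun hy1 => ?_⟩
  obtain ⟨u, hu, hu1⟩ := (Subgroup.bot_or_exists_ne_one U).resolve_left hU1
  have hC : ∀ v ∈ U, v ≠ 1 → fittingHallOf S ⊓ centralizer ({v} : Set G) ≠ ⊥ := fun v hv _ h0 =>
    hy1 (h0.le ⟨hy.1, mem_centralizer_singleton_iff.mpr (mem_centralizer_iff.mp hy.2 v hv).symm⟩)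
  have hv : g * u * g⁻¹ ∈ U := (hgU u).mp hu
  have hv1 : g * u * g⁻¹ ≠ 1 := fun h0 => hu1 (conj_eq_one_iff.mp h0)
  have hSg : S.map (MulAut.conj g).toMonoidHom = S := by
    refine PF8.centralizer_uniq_of_compl hG hS hP hII hv hv1 (hC _ hv hv1) _
      (BGSigma.isCoatom_map_conj hS g) ?_
    rw [← BGSigma.map_conj_centralizer_one]
    refine Subgroup.map_mono ?_
    obtain ⟨L, hL, hLe⟩ := (eq_top_or_exists_le_coatom (centralizer ({u} : Set G))).resolve_left
      (BGUniq.centralizer_ne_top hG (S := {u}) rfl hu1)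
    exact (PF8.centralizer_uniq_of_compl hG hS hP hII hu hu1 (hC _ hu hu1) L hL hLe) ▸ hLe
  have hgS : g ∈ S := by
    rw [← BGSigma.coatom_self_normalizing hG hS]
    exact Subgroup.mem_normalizer_iff_map_conj_eq.mpr hSg
  exact hgS' hgS
omit [Fintype G] in
theorem typePWith_card_derived {S W U W' : Subgroup G} (hP : IsTypePWith S W U W') [Finite G] :
    (fittingHallOf S).relIndex ⁅S, S⁆ = Nat.card U :=
  BGSummary.card_eq_of_complIn hP.U_compl
    (hP.W₁_compl.1.trans (BGSummary.le_normalizer_fittingHallOf S))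

omit hG in
/-- A `p`-group with trivial Frattini subgroup is elementary abelian. -/
theorem elementary_of_frattini {p : ℕ} [Fact p.Prime] {H : Subgroup G} (hH : IsPGroup p H)
    (hΦ : OddLocal43.frattiniOf H = ⊥) : IsElementaryAbelian p H := by
  refine ⟨⟨⟨fun a b => ?_⟩⟩, fun a ha => ?_⟩
  · refine commutatorElement_eq_one_iff_mul_comm.mp (Subtype.ext ?_)
    exact Subgroup.mem_bot.mp (hΦ.le ⟨⁅a, b⁆, PGroup.comm_mem_frattini hH a b, rfl⟩)
  · exact Subgroup.mem_bot.mp (hΦ.le (OddLocal43.pow_mem_frattiniOf hH ha))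

set_option maxHeartbeats 800000 in
/-- (10.11), group part: in the type II member of a pair with `|W'|` prime, `S_F` is elementary
abelian of order `|W'| ^ |W|`. -/
theorem core_of_typeII {S W U W' : Subgroup G} (hS : IsCoatom S) (hP : IsTypePWith S W U W')
    (hII : IsOfTypeII S) (hp : (Nat.card W').Prime) :
    IsElementaryAbelian (Nat.card W') (fittingHallOf S) ∧
      Nat.card (fittingHallOf S) = Nat.card W' ^ Nat.card W := by
  obtain ⟨hU1, hCU⟩ := inf_centralizer_eq_bot hG hS hP hII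
  set H := fittingHallOf S with hH
  set p := Nat.card W' with hpdef
  haveI := Fact.mk hp
  obtain ⟨hdS, hWS, hdW, -⟩ := hP.W₁_compl
  have hHd : H ≤ ⁅S, S⁆ := hP.U_compl.1
  have hUd : U ≤ ⁅S, S⁆ := hP.U_compl.2.1
  have hUS := hUd.trans hdS
  have hHS : H ≤ S := hHd.trans hdS
  have hSH : S ≤ normalizer (H : Set G) := BGSummary.le_normalizer_fittingHallOf S
  have hW'H : W' ≤ H := hP.W₂_le.trans inf_le_left
  have hfpf : ∀ e ∈ W, e ≠ 1 → ∀ u ∈ U, e * u = u * e → u = 1 := by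
    intro e he he1 u hu heu
    have h1 : u ∈ W' := by
      rw [← hP.W₂_centralizer e he he1]
      exact ⟨hUd hu, mem_centralizer_singleton_iff.mpr heu.symm⟩
    exact Subgroup.mem_bot.mp (hP.U_compl.2.2.1.le ⟨hW'H h1, hu⟩)
  have hUW : U ⊓ W = ⊥ := le_bot_iff.mp ((inf_le_inf_right W hUd).trans hdW.le)
  have hUWS : U ⊔ W ≤ S := sup_le hUS hWS
  have hUn : ∀ e ∈ W, ∀ u ∈ U, e * u * e⁻¹ ∈ U := fun e he u hu =>
    (mem_normalizer_iff.mp (hP.U_normal he) u).mp hu
  have hcop : (Nat.card H).Coprime (Nat.card ↥(U ⊔ W)) := by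
    have hc : Nat.card ↥(U ⊔ W) = Nat.card U * Nat.card W := by
      have h1 := Thompson.card_sup_mul_card_inf hP.U_normal
      rw [hUW, Subgroup.card_bot, mul_one] at h1
      exact h1
    rw [hc]
    refine (BGSummary.fittingHallOf_relIndex_coprime S).coprime_dvd_right (Dvd.intro 1 ?_)
    rw [mul_one, ← typePWith_card_derived hG hP,
      ← BGSummary.card_eq_of_complIn hP.W₁_compl (Coprime.le_normalizer_commutator_left S S),
      Subgroup.relIndex_mul_relIndex _ _ _ hHd hdS]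
  have hcard : ∀ P : Subgroup G, P ≤ H → S ≤ normalizer (P : Set G) →
      Nat.card P = Nat.card ↥(P ⊓ centralizer (W : Set G)) ^ Nat.card W := by
    intro P hPH hPn
    have hcU : P ⊓ centralizer (U : Set G) = ⊥ :=
      le_bot_iff.mp ((inf_le_inf_right _ hPH).trans hCU.le)
    have hcUW : P ⊓ centralizer ((U ⊔ W : Subgroup G) : Set G) = ⊥ :=
      le_bot_iff.mp ((inf_le_inf_left _ (centralizer_le (SetLike.coe_subset_coe.mpr le_sup_left))).trans
        hcU.le)
    have := S1545.result U W P hU1 hP.W₁_ne hUW hUn hfpf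
      (fun x hx y hy => (mem_normalizer_iff.mp (hPn (hUWS hx)) y).mp hy)
      (inf_eq_bot_of_coprime (hcop.coprime_dvd_left (card_dvd_of_le hPH)))
      (Coprime.solvable_of_le (hPH.trans hHS) (BGSigma.coatom_isSolvable hG hS))
      (hcop.coprime_dvd_left (card_dvd_of_le hPH))
    rwa [hcU, hcUW, Subgroup.card_bot, one_pow, one_mul, mul_one] at this
  have hCW : H ⊓ centralizer (W : Set G) = W' := by
    obtain ⟨e, he, he1⟩ := (Subgroup.bot_or_exists_ne_one W).resolve_left hP.W₁_ne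
    refine le_antisymm ?_ (le_inf hW'H fun w hw => mem_centralizer_iff.mpr fun a ha =>
      hP.selfNormalizing.2.2.2.1 a ha w hw)
    rw [← hP.W₂_centralizer e he he1]
    exact le_inf (inf_le_left.trans hHd) (inf_le_right.trans
      (centralizer_le (Set.singleton_subset_iff.mpr he)))
  have hHc : Nat.card H = p ^ Nat.card W := by rw [hcard H le_rfl hSH, hCW]
  have hHp : IsPGroup p H := IsPGroup.of_card hHc
  refine ⟨elementary_of_frattini hHp ?_, hHc⟩
  have hΦH := OddLocal43.frattiniOf_le H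
  have hΦn : S ≤ normalizer (OddLocal43.frattiniOf H : Set G) :=
    hSH.trans (OddLocal43.normalizes_map_characteristic _)
  have hH0 : H ≠ ⊥ := (PF8.typeInputs hG).fitting_core S hS |>.1
  have h1 : Nat.card ↥(OddLocal43.frattiniOf H ⊓ centralizer (W : Set G)) ∣ p :=
    card_dvd_of_le ((inf_le_inf_right _ hΦH).trans hCW.le)
  have h2 := hcard _ hΦH hΦn
  rcases (Nat.dvd_prime hp).mp h1 with h3 | h3
  · rw [h3, one_pow] at h2
    exact card_eq_one.mp h2
  · exfalso
    refine (OddLocal43.frattiniOf_lt hH0).ne (Subgroup.eq_of_le_of_card_ge hΦH ?_)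
    rw [h2, h3, hHc]

/-- (10.1), (10.8) for a maximal subgroup of Type III or IV: the set `S(1)` has a coherence system
and is not coherent. -/
theorem system_of_34 {M W₁ U W₂ : Subgroup G} [Fintype M]
    (hM : IsCoatom M) (hP : IsTypePWith M W₁ U W₂) (hT : IsOfTypeIII M ∨ IsOfTypeIV M) :
    U.subgroupOf M ≠ ⊥ ∧
      (∃ Rs, IsCoherenceSystem (inducedIrrAbove ((⁅M, M⁆ : Subgroup G).subgroupOf M) ⊥)
        (dadeIsometry (typeA0 M) M (supportR M)) Rs) ∧
      ¬ IsCoherent (inducedIrrAbove ((⁅M, M⁆ : Subgroup G).subgroupOf M) ⊥) {1}ᶜ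
        (dadeIsometry (typeA0 M) M (supportR M)) := by
  classical
  obtain ⟨S, V, hS, hV, -, hor, -⟩ := PF8.exists_partner hG hM hP
  have hSII : IsOfTypeII S := hor.resolve_left (PF8.not_typeII_of_34 hG hM hP hT)
  obtain ⟨hSF, hSTI⟩ := PF8.typeII_of_typePWith hG hS hV hSII
  obtain ⟨hV1, -⟩ := inf_centralizer_eq_bot hG hS hV hSII
  have hcore : typeCore M = ⁅M, M⁆ := by rw [typeCore, if_pos hT]
  have hh : PF10.Hyp M W₁ U W₂ :=
    ⟨hG, hM, hP, PF8.not_typeI hG hM hP, hcore,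
      PF8.prime_W₂ hG hM hP (PF8.not_typeII_of_34 hG hM hP hT),
      PF8.dade_typeA0 hG (PF8.summaryInputs hG) hM⟩
  obtain ⟨-, hab, g, hgS, hgV⟩ := typeII_complement hG hS hV hSII
  have hnorm : ¬ normalizer (V : Set G) ≤ S := fun h0 =>
    hgS (h0 (mem_normalizer_iff.mpr hgV))
  have hidx : (Nat.card (fittingHallOf S)).Coprime (fittingHallOf S).index := by
    have := ((BGSummary.type_core_stmt hG (PF8.summaryInputs hG) S hS).2).1
    exact this
  have hPartner : PF10.Partner S W₂ V W₁ :=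
    ⟨hS, hV, PF8.prime_W₁ hG hS hV (Or.inl hSII), hV1, hab, hnorm, hSTI, hidx,
      fun u hu hu1 hC => PF8.centralizer_uniq_of_compl hG hS hV hSII hu hu1 hC⟩
  have hPD := PF8.primeDade hG hM hP (H := ⁅M, M⁆) hcore.ge
    ((hP.W₂_le.trans inf_le_left).trans hP.U_compl.1)
    (Coprime.le_normalizer_commutator_left M M)
  have hodd : Odd (Nat.card M) := BGSigma.odd_card_subgroup hG M
  obtain ⟨χ, F⟩ := hPD.pti.exists_fam
  obtain ⟨η, E⟩ := PF.exists_eta M (W₁.subgroupOf M) (W₂.subgroupOf M) hPD.cyc hPD.pti.odd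
  haveI := hPD.pti.split.finite_dual
  haveI : Fintype ↥(OddChar.CycTI.D1 (W₁.subgroupOf M) (W₂.subgroupOf M)) := Fintype.ofFinite _
  haveI : Fintype ↥(OddChar.CycTI.D2 (W₁.subgroupOf M) (W₂.subgroupOf M)) := Fintype.ofFinite _
  obtain ⟨Rs, hRs, -⟩ := hPD.exists_system E F hodd
  rw [PF.indAbove_self] at hRs
  have hU1 : U.subgroupOf M ≠ ⊥ := by
    intro h0
    obtain ⟨K, U₀, hKU⟩ := BGSummary.exists_decomp (PF8.summaryInputs hG) hM
    refine ((PF8.summaryInputs hG).typeIII_IV_iff M hM K U₀ hKU).mp hT |>.2.2 ?_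
    obtain ⟨-, hFσ, hσd, -, -⟩ := (PF8.summaryInputs hG).fitting_core M hM
    refine le_antisymm hFσ (hσd.trans ?_)
    rw [← BGSummary.isComplIn_sup hP.U_compl,
      show U = ⊥ by rw [← Subgroup.map_subgroupOf_eq_of_le
        (hP.U_compl.2.1.trans hP.W₁_compl.1), h0, Subgroup.map_bot], sup_bot_eq]
  exact ⟨hU1, ⟨Rs, hRs⟩, PF10.not_coherent hh hPartner⟩

end Cfsg.Agent.PF13
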