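import Cfsg.Agent.PF8.TypePSetup
import Cfsg.Agent.FT.Pair

/-!
# Peterfalvi (13): `N(W₁) = C(W₁) = T_F W₂` (`S1548`), reduced to `C_V(W₁) = 1`
-/

set_option autoImplicit false

namespace Cfsg.Agent.PF13

open Cfsg Subgroup

universe u

variable {G : Type u} [Group G] [Finite G] (hG : IsMinSimpleOddOrder G)
include hG

theorem normalizer_W₁ {S T W₁ W₂ U V : Subgroup G} (d : FT.Pair S T W₁ W₂ U V)
    (hab : IsMulCommutative (fittingHallOf T))
    (hTI : IsTISubset (typeA0 T)) (hN : normalizer (typeA0 T) = T)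
    (hCV : V ⊓ centralizer (W₁ : Set G) = ⊥) :
    normalizer (W₁ : Set G) = centralizer (W₁ : Set G) ∧
      centralizer (W₁ : Set G) = fittingHallOf T ⊔ W₂ := by
  have hP := d.typeT
  have hT := d.coatomT
  obtain ⟨hdT, hW₂T, -, hTmul⟩ := hP.W₁_compl
  obtain ⟨hFd, hVd, -, hdmul⟩ := hP.U_compl
  have hW₁F : W₁ ≤ fittingHallOf T := hP.W₂_le.trans inf_le_left
  have hW₁d : W₁ ≤ ⁅T, T⁆ := hW₁F.trans hFd
  obtain ⟨-, -, hdisj, hcomm, -, -⟩ := hP.selfNormalizing
  haveI := hab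
  have hle : fittingHallOf T ⊔ W₂ ≤ centralizer (W₁ : Set G) := by
    refine sup_le (fun x hx => mem_centralizer_iff.mpr fun w hw => ?_)
      fun x hx => mem_centralizer_iff.mpr fun w hw => (hcomm x hx w hw).symm
    exact congrArg Subtype.val (mul_comm' (⟨w, hW₁F hw⟩ : fittingHallOf T) ⟨x, hx⟩)
  obtain ⟨w, hw, hw1⟩ := (Subgroup.bot_or_exists_ne_one W₁).resolve_left hP.selfNormalizing.2.1
  have hA0 : ∀ z ∈ W₁, z ≠ 1 → z ∈ typeA0 T := by
    intro z hz hz1
    refine Or.inl ?_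
    rw [PF8.typeA_eq hG hT hP]
    refine ⟨hW₁d hz, hz1, z, ?_, hz1, rfl⟩
    rw [typeCore]
    split_ifs
    · exact hW₁d hz
    · exact hW₁F hz
  have hNT : normalizer (W₁ : Set G) ≤ T := by
    intro g hg
    by_contra hgT
    exact hw1 (hTI g (fun h0 => hgT (hN.le h0)) w (hA0 w hw hw1)
      (hA0 _ ((mem_normalizer_iff.mp hg w).mp hw) fun h0 => hw1 (conj_eq_one_iff.mp h0)))
  have hsup : normalizer (W₁ : Set G) ≤ fittingHallOf T ⊔ W₂ := by
    intro n hn
    obtain ⟨a, ha, e, he, rfl⟩ := hTmul n (hNT hn)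
    obtain ⟨x, hx, v, hv, rfl⟩ := hdmul a ha
    have hcn : centralizer (W₁ : Set G) ≤ normalizer (W₁ : Set G) :=
      Subgroup.centralizer_le_normalizer _
    have hxN : x ∈ normalizer (W₁ : Set G) := hcn (hle (mem_sup_left hx))
    have heC : e ∈ centralizer (W₁ : Set G) := hle (mem_sup_right he)
    have hvN : v ∈ normalizer (W₁ : Set G) := by
      have := (normalizer (W₁ : Set G)).mul_mem
        ((normalizer (W₁ : Set G)).mul_mem ((normalizer (W₁ : Set G)).inv_mem hxN) hn)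
        ((normalizer (W₁ : Set G)).inv_mem (hcn heC))
      simpa [mul_assoc] using this
    have key : ∀ f ∈ W₂, f * v = v * f := by
      intro f hf
      have hfC : f ∈ centralizer (W₁ : Set G) := hle (mem_sup_right hf)
      have hmem : v⁻¹ * (f * v * f⁻¹) ∈ V :=
        V.mul_mem (V.inv_mem hv) ((mem_normalizer_iff.mp (hP.U_normal hf) v).mp hv)
      have hc : v⁻¹ * (f * v * f⁻¹) ∈ centralizer (W₁ : Set G) := by
        have h1 : v⁻¹ * f * v ∈ centralizer (W₁ : Set G) := by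
          refine mem_centralizer_iff.mpr fun z hz => ?_
          have hz' := mem_centralizer_iff.mp hfC _ ((mem_normalizer_iff.mp hvN z).mp hz)
          calc z * (v⁻¹ * f * v) = v⁻¹ * (v * z * v⁻¹ * f) * v := by group
            _ = v⁻¹ * (f * (v * z * v⁻¹)) * v := by rw [hz']
            _ = v⁻¹ * f * v * z := by group
        have h2 := (centralizer (W₁ : Set G)).mul_mem h1 ((centralizer (W₁ : Set G)).inv_mem hfC)
        simpa [mul_assoc] using h2
      have h3 : v⁻¹ * (f * v * f⁻¹) = 1 := mem_bot.mp (hCV.le ⟨hmem, hc⟩)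
      rw [inv_mul_eq_one] at h3
      exact (eq_mul_inv_iff_mul_eq.mp h3).symm
    obtain ⟨f, hf, hf1⟩ := (Subgroup.bot_or_exists_ne_one W₂).resolve_left hP.W₁_ne
    have hvW : v ∈ W₁ := by
      rw [← hP.W₂_centralizer f hf hf1]
      exact ⟨hVd hv, mem_centralizer_singleton_iff.mpr (key f hf).symm⟩
    have hv1 : v = 1 := mem_bot.mp (hP.U_compl.2.2.1.le ⟨hW₁F hvW, hv⟩)
    rw [hv1, mul_one]
    exact mul_mem_sup hx he
  exact ⟨le_antisymm (hsup.trans hle) (Subgroup.centralizer_le_normalizer _),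
    le_antisymm ((Subgroup.centralizer_le_normalizer _).trans hsup) hle⟩

end Cfsg.Agent.PF13
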